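import Groth.Agent.H61.HpullFunct
import Groth.Agent.Lib.EtSite.BaseChange
import Groth.Agent.Lib.EtJ.PullExact
import Groth.Agent.Lib.EtRad.Push

/-!
# Restriction maps on etale cohomology of schemes over a base

* `cocycle`: the comparison isomorphisms of iterated inverse images satisfy the cocycle condition;
* `HpullVia_comp`: relative pullbacks compose;
* `res F q : (Over Y)ᵒᵖ ⥤ AddCommGrpCat`: the cohomology presheaf `T ↦ H^q(T, F|T)`.
-/

universe u

open CategoryTheory CategoryTheory.Limits CategoryTheory.Abelian AlgebraicGeometry Opposite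

noncomputable section

namespace Groth.Agent.Lib.HRes.Basic

open Groth.Agent.H61 Groth.Agent.Lib.EtSite Groth.Agent.Lib.EtJ

theorem pushComp_app {X Y Z : Scheme.{u}} (f : X ⟶ Y) (g : Z ⟶ X) (F : EtCoh.Ab Z) (V : Y.Etale) :
    ((EtCoh.pushComp f g).hom.app F).hom.app (op V) =
      F.obj.map ((MorphismProperty.Over.pullbackComp (P := EtCoh.etaleMP) (Q := ⊤) g f).hom.app V).op := by
  simp only [EtCoh.pushComp]
  simp
  rfl

theorem pushCongr_app {X Y : Scheme.{u}} {f f' : X ⟶ Y} (h : f = f') (F : EtCoh.Ab X) (V : Y.Etale) :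
    ((EtCoh.pushCongr h).hom.app F).hom.app (op V) =
      F.obj.map ((MorphismProperty.Over.pullbackCongr (P := EtCoh.etaleMP) (Q := ⊤) h).inv.app V).op := by
  rfl

variable {Y T T' T'' : Scheme.{u}} (b : T'' ⟶ T') (a : T' ⟶ T) (t : T ⟶ Y)

omit b a t in
/-- Maps into an iterated base change are determined by the projection to the first factor. -/
theorem hom_ext_fst {b : T'' ⟶ T'} {a : T' ⟶ T} {t : T ⟶ Y} {V : Y.Etale} {W : T''.Etale}
    {x y : W ⟶ (EtCoh.bc b).obj ((EtCoh.bc a).obj ((EtCoh.bc t).obj V))}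
    (h : x.left ≫ pullback.fst ((EtCoh.bc a).obj ((EtCoh.bc t).obj V)).hom b ≫
        pullback.fst ((EtCoh.bc t).obj V).hom a ≫ pullback.fst V.hom t =
      y.left ≫ pullback.fst ((EtCoh.bc a).obj ((EtCoh.bc t).obj V)).hom b ≫
        pullback.fst ((EtCoh.bc t).obj V).hom a ≫ pullback.fst V.hom t) : x = y := by
  have h1 : x.left ≫ pullback.snd ((EtCoh.bc a).obj ((EtCoh.bc t).obj V)).hom b =
      y.left ≫ pullback.snd ((EtCoh.bc a).obj ((EtCoh.bc t).obj V)).hom b :=
    ((Over.w x.hom).trans (Over.w y.hom).symm :)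
  have h2 : x.left ≫ pullback.fst ((EtCoh.bc a).obj ((EtCoh.bc t).obj V)).hom b ≫
        pullback.snd ((EtCoh.bc t).obj V).hom a =
      y.left ≫ pullback.fst ((EtCoh.bc a).obj ((EtCoh.bc t).obj V)).hom b ≫
        pullback.snd ((EtCoh.bc t).obj V).hom a :=
    (x.left ≫= pullback.condition).trans (((Category.assoc _ _ _).symm.trans ((congrArg (· ≫ b) h1).trans
      (Category.assoc _ _ _))).trans (y.left ≫= pullback.condition).symm)
  have h3 : x.left ≫ pullback.fst ((EtCoh.bc a).obj ((EtCoh.bc t).obj V)).hom b ≫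
        pullback.fst ((EtCoh.bc t).obj V).hom a ≫ pullback.snd V.hom t =
      y.left ≫ pullback.fst ((EtCoh.bc a).obj ((EtCoh.bc t).obj V)).hom b ≫
        pullback.fst ((EtCoh.bc t).obj V).hom a ≫ pullback.snd V.hom t := by
    have h5 := congrArg (· ≫ a) h2
    simp only [Category.assoc] at h5
    exact (x.left ≫= (_ ≫= pullback.condition)).trans (h5.trans (y.left ≫= (_ ≫= pullback.condition)).symm)
  refine MorphismProperty.Over.Hom.ext (pullback.hom_ext (pullback.hom_ext (pullback.hom_ext ?_ ?_) ?_) h1)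
  · exact ((Category.assoc _ _ _).trans (Category.assoc _ _ _)).trans
      (h.trans ((Category.assoc _ _ _).trans (Category.assoc _ _ _)).symm)
  · exact ((Category.assoc _ _ _).trans (Category.assoc _ _ _)).trans
      (h3.trans ((Category.assoc _ _ _).trans (Category.assoc _ _ _)).symm)
  · exact (Category.assoc _ _ _).trans (h2.trans (Category.assoc _ _ _).symm)

/-- Associativity of the composition isomorphisms of direct images. -/
theorem push_assoc (N : EtCoh.Ab T'') {t'' : T'' ⟶ Y} (wb : b ≫ a ≫ t = t'')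
    (wc : (b ≫ a) ≫ t = t'') :
    (EtCoh.pushComp t a).hom.app ((EtCoh.push b).obj N) ≫
        (EtCoh.pushComp (a ≫ t) b).hom.app N ≫ (EtCoh.pushCongr wb).hom.app N =
      (EtCoh.push t).map ((EtCoh.pushComp a b).hom.app N) ≫
        (EtCoh.pushComp t (b ≫ a)).hom.app N ≫ (EtCoh.pushCongr wc).hom.app N := by
  apply Sheaf.hom_ext
  apply NatTrans.ext
  funext V
  obtain ⟨V⟩ := V
  change ((EtCoh.pushComp t a).hom.app ((EtCoh.push b).obj N)).hom.app (op V) ≫
      ((EtCoh.pushComp (a ≫ t) b).hom.app N).hom.app (op V) ≫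
        ((EtCoh.pushCongr wb).hom.app N).hom.app (op V) =
    ((EtCoh.pushComp a b).hom.app N).hom.app (op ((EtCoh.bc t).obj V)) ≫
      ((EtCoh.pushComp t (b ≫ a)).hom.app N).hom.app (op V) ≫
        ((EtCoh.pushCongr wc).hom.app N).hom.app (op V)
  rw [pushComp_app, pushComp_app, pushComp_app, pushComp_app, pushCongr_app, pushCongr_app]
  change N.obj.map ((EtCoh.bc b).map
      ((MorphismProperty.Over.pullbackComp (P := EtCoh.etaleMP) (Q := ⊤) a t).hom.app V)).op ≫ _ = _
  refine ((_ ≫= (N.obj.map_comp _ _).symm).trans (N.obj.map_comp _ _).symm).trans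
    (Eq.trans ?_ ((N.obj.map_comp _ _).trans (_ ≫= N.obj.map_comp _ _)))
  refine congrArg N.obj.map (congrArg Quiver.Hom.op (hom_ext_fst ?_))
  have e1 := MorphismProperty.Over.pullbackComp_left_fst_fst (P := EtCoh.etaleMP) (Q := ⊤) a t V
  have e2 := MorphismProperty.Over.pullbackComp_left_fst_fst (P := EtCoh.etaleMP) (Q := ⊤) b (a ≫ t) V
  have e3 := MorphismProperty.Over.pullbackComp_left_fst_fst (P := EtCoh.etaleMP) (Q := ⊤) (b ≫ a) t V
  have e4 := MorphismProperty.Over.pullbackComp_left_fst_fst (P := EtCoh.etaleMP) (Q := ⊤) b a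
    ((EtCoh.bc t).obj V)
  have e5 := BaseChange.pullbackCongr_inv_fst wb V
  have e6 := BaseChange.pullbackCongr_inv_fst wc V
  have e7 : ((EtCoh.bc b).map
      ((MorphismProperty.Over.pullbackComp (P := EtCoh.etaleMP) (Q := ⊤) a t).hom.app V)).left ≫
        pullback.fst ((EtCoh.bc a).obj ((EtCoh.bc t).obj V)).hom b =
      pullback.fst ((EtCoh.bc (a ≫ t)).obj V).hom b ≫
        ((MorphismProperty.Over.pullbackComp (P := EtCoh.etaleMP) (Q := ⊤) a t).hom.app V).left :=
    pullback.lift_fst _ _ _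
  let f₁ := pullback.fst ((EtCoh.bc a).obj ((EtCoh.bc t).obj V)).hom b
  let f₂ := pullback.fst ((EtCoh.bc t).obj V).hom a
  let f₃ := pullback.fst V.hom t
  have L : ((EtCoh.bc b).map
      ((MorphismProperty.Over.pullbackComp (P := EtCoh.etaleMP) (Q := ⊤) a t).hom.app V)).left ≫
        f₁ ≫ f₂ ≫ f₃ =
      pullback.fst ((EtCoh.bc (a ≫ t)).obj V).hom b ≫ pullback.fst V.hom (a ≫ t) :=
    (Category.assoc _ _ _).symm.trans ((congrArg (· ≫ f₂ ≫ f₃) e7).trans
      ((Category.assoc _ _ _).trans (_ ≫= e1)))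
  have R : ((MorphismProperty.Over.pullbackComp (P := EtCoh.etaleMP) (Q := ⊤) b a).hom.app
      ((EtCoh.bc t).obj V)).left ≫ f₁ ≫ f₂ ≫ f₃ =
      pullback.fst ((EtCoh.bc t).obj V).hom (b ≫ a) ≫ f₃ :=
    (_ ≫= (Category.assoc _ _ _).symm).trans
      ((Category.assoc _ _ _).symm.trans (congrArg (· ≫ f₃) e4))
  refine Eq.trans ((Category.assoc _ _ _).trans ((_ ≫= L).trans
    ((Category.assoc _ _ _).trans ((_ ≫= e2).trans e5)))) (Eq.symm ?_)
  exact (Category.assoc _ _ _).trans ((_ ≫= R).trans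
    ((Category.assoc _ _ _).trans ((_ ≫= e3).trans e6)))

variable {b a t} {t' : T' ⟶ Y} {t'' : T'' ⟶ Y}

/-- The comparison of inverse images along a commutative triangle. -/
def β (wa : a ≫ t = t') : EtCoh.pull t ⋙ EtCoh.pull a ⟶ EtCoh.pull t' :=
  ((EtCore.pullComp a t).symm ≪≫ EtCore.pullCongr wa).hom

set_option maxHeartbeats 400000 in
theorem cocycle (wa : a ≫ t = t') (wb : b ≫ t' = t'') (wc : (b ≫ a) ≫ t = t'') (M : EtCoh.Ab Y) :
    (EtCoh.pull b).map ((β wa).app M) ≫ (β wb).app M =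
      (β (rfl : b ≫ a = b ≫ a)).app ((EtCoh.pull t).obj M) ≫ (β wc).app M := by
  subst wa
  set N := (EtCoh.pull t'').obj M
  apply ((EtCoh.pullPushAdj b).homEquiv _ _).injective
  apply ((EtCoh.pullPushAdj a).homEquiv _ _).injective
  apply ((EtCoh.pullPushAdj t).homEquiv _ _).injective
  refine (cancel_mono ((EtCoh.pushComp t a).hom.app ((EtCoh.push b).obj N) ≫
    (EtCoh.pushComp (a ≫ t) b).hom.app N ≫ (EtCoh.pushCongr wb).hom.app N)).1 ?_
  have hid := fun (K : EtCoh.Ab T'') (g : K ⟶ N) => Category.comp_id g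
  refine Eq.trans ?_ (Eq.trans ((HpullFunct.homEquiv_pullVia wc (𝟙 N)).trans
    (HpullFunct.homEquiv_pullVia wb (𝟙 N)).symm).symm ?_)
  · rw [Adjunction.homEquiv_naturality_left, hid]
    have h := HpullFunct.homEquiv_pullVia (rfl : a ≫ t = a ≫ t) (M := M)
      ((EtCoh.pullPushAdj b).homEquiv _ _ ((β wb).app M))
    rw [HpullFunct.pushCongr_rfl, Category.comp_id] at h
    have h' := congrArg (· ≫ ((EtCoh.pushComp (a ≫ t) b).hom.app N ≫
      (EtCoh.pushCongr wb).hom.app N)) h
    simp only [Category.assoc, β, N] at h' ⊢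
    exact h'
  · rw [push_assoc (wc := wc), hid]
    have h := HpullFunct.homEquiv_pullVia (rfl : b ≫ a = b ≫ a) (M := (EtCoh.pull t).obj M)
      ((β wc).app M)
    rw [HpullFunct.pushCongr_rfl, Category.comp_id] at h
    have h' := congrArg (fun m => (EtCoh.pullPushAdj t).homEquiv _ _ m ≫
      (EtCoh.pushComp t (b ≫ a)).hom.app N ≫ (EtCoh.pushCongr wc).hom.app N) h
    simp only [β, N, Adjunction.homEquiv_naturality_right, Category.assoc] at h' ⊢
    exact h'.symm

theorem HpullVia_eq (wa : a ≫ t = t') (F : EtCoh.Ab Y) (q : ℕ)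
    (e : EtCoh.H T ((EtCoh.pull t).obj F) q) :
    EtCore.HpullVia a t t' wa F q e =
      ((EtCoh.HF T' q).map ((β wa).app F)).hom (EtCore.Hpull a ((EtCoh.pull t).obj F) q e) := rfl

/-- Relative pullbacks compose. -/
theorem HpullVia_comp (wa : a ≫ t = t') (wb : b ≫ t' = t'') (wc : (b ≫ a) ≫ t = t'')
    (F : EtCoh.Ab Y) (q : ℕ) (e : EtCoh.H T ((EtCoh.pull t).obj F) q) :
    EtCore.HpullVia b t' t'' wb F q (EtCore.HpullVia a t t' wa F q e) =
      EtCore.HpullVia (b ≫ a) t t'' wc F q e := by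
  rw [HpullVia_eq, HpullVia_eq, HpullVia_eq, HpullFunct.Hpull_map,
    ← HpullFunct.HpullVia_Hpull b a (b ≫ a) rfl ((EtCoh.pull t).obj F) q e, HpullVia_eq]
  simp only [← ConcreteCategory.comp_apply, ← Functor.map_comp]
  exact congrArg (fun m => ((EtCoh.HF T'' q).map m).hom _) (cocycle wa wb wc F)

theorem HpullVia_id (F : EtCoh.Ab Y) (q : ℕ) (e : EtCoh.H T ((EtCoh.pull t).obj F) q) :
    EtCore.HpullVia (𝟙 T) t t (Category.id_comp t) F q e = e := by
  have hinj : Function.Injective (EtCore.HpullVia (𝟙 T) t t (Category.id_comp t) F q) := by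
    have : IsIso ((β (Category.id_comp t)).app F) :=
      inferInstanceAs (IsIso (((EtCore.pullComp (𝟙 T) t).symm ≪≫
        EtCore.pullCongr (Category.id_comp t)).hom.app F))
    intro x y h
    rw [HpullVia_eq, HpullVia_eq] at h
    exact (EtRad.Push.Hpull_bijective (𝟙 T) ((EtCoh.pull t).obj F) q).1
      ((asIso ((EtCoh.HF T q).map ((β (Category.id_comp t)).app F))).addCommGroupIsoToAddEquiv.injective h)
  refine hinj ((HpullVia_comp (Category.id_comp t) (Category.id_comp t) ?_ F q e).trans ?_)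
  · exact (Category.assoc _ _ _).trans ((Category.id_comp _).trans (Category.id_comp t))
  · congr 1

/-- The cohomology presheaf `T ↦ H^q(T, F|T)` on schemes over `Y`. -/
def res (F : EtCoh.Ab Y) (q : ℕ) : (Over Y)ᵒᵖ ⥤ AddCommGrpCat.{u + 1} where
  obj T := AddCommGrpCat.of (EtCoh.H T.unop.left ((EtCoh.pull T.unop.hom).obj F) q)
  map a := AddCommGrpCat.ofHom (EtCore.HpullVia a.unop.left _ _ (Over.w a.unop) F q)
  map_id T := AddCommGrpCat.hom_ext (AddMonoidHom.ext fun e => HpullVia_id F q e)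
  map_comp a b := AddCommGrpCat.hom_ext (AddMonoidHom.ext fun e =>
    (HpullVia_comp (Over.w a.unop) (Over.w b.unop) (Over.w (b.unop ≫ a.unop)) F q e).symm)

end Groth.Agent.Lib.HRes.Basic
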