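import Groth.Agent.Lib.HRes.Basic
import Groth.Agent.H30.E1.Double
import Mathlib.AlgebraicTopology.ExtraDegeneracy
import Mathlib.Algebra.Homology.Opposite
import Mathlib.Algebra.Homology.SingleHomology

/-!
# The descent spectral sequence of a morphism with a section
-/

universe u

open CategoryTheory CategoryTheory.Limits AlgebraicGeometry Opposite Simplicial

noncomputable section

namespace Groth.Agent.Lib.HRes.Split

open Groth.Agent.Lib.HRes

variable {X Y : Scheme.{u}} (f : X ⟶ Y)

/-- The augmented Cech nerve, in schemes over `Y`. -/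
def nerve : SimplicialObject.Augmented (Over Y) where
  left :=
    { obj n := Over.mk ((Arrow.mk f).augmentedCechNerve.hom.app n)
      map g := Over.homMk ((Arrow.mk f).augmentedCechNerve.left.map g) (by
        exact ((Arrow.mk f).augmentedCechNerve.hom.naturality g).trans (Category.comp_id _))
      map_id n := Over.OverMorphism.ext ((Arrow.mk f).augmentedCechNerve.left.map_id n)
      map_comp g h := Over.OverMorphism.ext ((Arrow.mk f).augmentedCechNerve.left.map_comp g h) }
  right := Over.mk (𝟙 Y)
  hom :=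
    { app n := Over.homMk ((Arrow.mk f).augmentedCechNerve.hom.app n) (Category.comp_id _)
      naturality n m g := Over.OverMorphism.ext ((Arrow.mk f).augmentedCechNerve.hom.naturality g) }

variable {f} (S : SplitEpi f)

/-- The extra degeneracy of the nerve over `Y`. -/
def nerveExtraDegeneracy : SimplicialObject.Augmented.ExtraDegeneracy (nerve f) :=
  let ed := Arrow.AugmentedCechNerve.extraDegeneracy (Arrow.mk f) S
  { s' := Over.homMk ed.s' ed.s'_comp_ε
    s := fun n => Over.homMk (ed.s n)
      (Arrow.AugmentedCechNerve.ExtraDegeneracy.s_comp_base (Arrow.mk f) S n)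
    s'_comp_ε := Over.OverMorphism.ext ed.s'_comp_ε
    s₀_comp_δ₁ := Over.OverMorphism.ext ed.s₀_comp_δ₁
    s_comp_δ₀ := fun n => Over.OverMorphism.ext (ed.s_comp_δ₀ n)
    s_comp_δ := fun n i => Over.OverMorphism.ext (ed.s_comp_δ n i)
    s_comp_σ := fun n i => Over.OverMorphism.ext (ed.s_comp_σ n i) }

variable (f) (F : EtCoh.Ab Y) (q : ℕ)

/-- The cohomology of the nerve, as a simplicial object of the opposite category of abelian groups. -/
def cohNerve : SimplicialObject.Augmented (AddCommGrpCat.{u + 1})ᵒᵖ :=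
  ((SimplicialObject.Augmented.whiskering _ _).obj (Basic.res F q).rightOp).obj (nerve f)

/-- The Cech complex `p ↦ H^q(X_p, F|X_p)`. -/
def cech : CochainComplex AddCommGrpCat.{u + 1} ℕ :=
  (AlgebraicTopology.AlternatingFaceMapComplex.obj
    (SimplicialObject.Augmented.drop.obj (cohNerve f F q))).unop

variable {f}

include S in
theorem isZero_homology_cech (p : ℕ) : IsZero ((cech f F q).homology (p + 1)) := by
  let e := ((nerveExtraDegeneracy S).map (Basic.res F q).rightOp).homotopyEquiv.toHomologyIso (p + 1)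
  have h := (HomologicalComplex.isZero_single_obj_homology (ComplexShape.down ℕ) 0
    (SimplicialObject.Augmented.point.obj (cohNerve f F q)) (p + 1) (by simp)).of_iso e
  exact h.unop.of_iso (HomologicalComplex.homologyUnop _ (p + 1))

include S in
theorem nonempty_homology_cech_zero :
    Nonempty ((cech f F q).homology 0 ≅ AddCommGrpCat.of (EtCoh.H Y F q)) := by
  let e := ((nerveExtraDegeneracy S).map (Basic.res F q).rightOp).homotopyEquiv.toHomologyIso 0 ≪≫
    HomologicalComplex.singleObjHomologySelfIso (ComplexShape.down ℕ) 0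
      (SimplicialObject.Augmented.point.obj (cohNerve f F q))
  exact ⟨HomologicalComplex.homologyUnop _ 0 ≪≫ e.unop.symm ≪≫
    (AddEquiv.ofBijective _ (EtRad.Push.Hpull_bijective (𝟙 Y) F q)).toAddCommGrpIso.symm⟩

/-- Homology of a complex with zero differentials. -/
def homologyIsoOfZero {C : Type*} [Category C] [Abelian C] (K : CochainComplex C ℕ)
    (h : ∀ i j, K.d i j = 0) (n : ℕ) : K.homology n ≅ K.X n :=
  (ShortComplex.LeftHomologyData.ofZeros (K.sc n) (h _ _) (h _ _)).homologyIso

include S in
theorem exists_spectralSequence :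
    ∃ (E : CohomologicalSpectralSequence AddCommGrpCat.{u + 1} 1)
      (a : SpSeq.Abutment E (fun n : ℤ =>
        if 0 ≤ n then AddCommGrpCat.of (EtCoh.H Y F n.toNat) else AddCommGrpCat.of PUnit.{u + 2})),
      (∀ n, a.IsFinite n) ∧ SpSeq.IsBounded E ∧
      ∀ p q : ℤ, Nonempty ((E.page 1 le_rfl).X (p, q) ≅
        (if 0 ≤ p ∧ 0 ≤ q then
          AddCommGrpCat.of (EtCoh.H (widePullback Y (fun _ : Fin (p.toNat + 1) => X) (fun _ => f))
            ((EtCoh.pull (WidePullback.base (fun _ : Fin (p.toNat + 1) => f) :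
              widePullback Y (fun _ : Fin (p.toNat + 1) => X) (fun _ => f) ⟶ Y)).obj F) q.toNat)
         else AddCommGrpCat.of PUnit.{u + 2})) := by
  let D : CochainComplex (CochainComplex AddCommGrpCat.{u + 1} ℕ) ℕ :=
    { X := fun q => cech f F q
      d := fun _ _ => 0
      shape := fun _ _ _ => rfl
      d_comp_d' := fun _ _ _ _ _ => comp_zero }
  have hp : IsZero (AddCommGrpCat.of PUnit.{u + 2}) := AddCommGrpCat.isZero_of_subsingleton _
  refine Groth.Agent.H30.E1.exists_spectralSequence D (fun q p => isZero_homology_cech S F q p) _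
    (fun n => ?_) (fun n hn => ?_) _ (fun p q => ?_) (fun p q hpq => ?_)
  · obtain ⟨e⟩ := nonempty_homology_cech_zero S F n
    refine ⟨homologyIsoOfZero (Groth.Agent.H30.E1.rowsH0 D) (fun i j => ?_) n ≪≫ e ≪≫ eqToIso ?_⟩
    · exact (HomologicalComplex.homologyFunctor AddCommGrpCat.{u + 1} (.up ℕ) 0).map_zero _ _
    · rw [if_pos (Int.natCast_nonneg n), Int.toNat_natCast]
  · rw [if_neg (not_le.2 hn)]; exact hp
  · refine ⟨homologyIsoOfZero (Groth.Agent.H30.E1.col D p) (fun i j => ?_) q ≪≫ eqToIso ?_⟩
    · exact (HomologicalComplex.eval AddCommGrpCat.{u + 1} (.up ℕ) p).map_zero _ _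
    · rw [if_pos ⟨Int.natCast_nonneg p, Int.natCast_nonneg q⟩]
      rfl
  · rw [if_neg hpq]; exact hp

end Groth.Agent.Lib.HRes.Split
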